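import Cfsg.Agent.Lib.Triality.Subalgebra
import Cfsg.Agent.Lib.ChevCoeff.Basic
import Cfsg.Agent.Lib.Chev.Bruhat

/-!
An upper bound for the number of fixed points of triality in D4(q): the order of G2(q).
-/

set_option autoImplicit false

namespace Cfsg.Agent.Lib.Triality

open Cfsg.Lie Cfsg.Agent.Lib.Chev Cfsg.Agent.Lib.Twisted Cfsg.Agent.Lib.ChevCoeff
open scoped Matrix

variable {F : Type*} [Field F]

theorem rooted_four : Rooted chevD4 D4.cert := Rooted.mk checked_D4 descent_D4

local notation "hh" => rooted_four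
local notation "hc" => Rooted.toChecked rooted_four

theorem rho_lt {r : ℕ} (hr : r < 24) : rho r < 24 := (rho_facts.1 r hr).1

theorem alpha_x {r : ℕ} (hr : r < chevD4.nroots) (t : F) :
    alpha F (xGL hc F hr t) = xGL hc F (rho_lt hr) ((d4Graph.sign r : F) * t) :=
  Units.ext (GraphData.conjMap_x d4Graph_facts F hr t)

theorem alpha_rootGen {S T : Set ℕ} (hS : ∀ r ∈ S, r < chevD4.nroots) (hST : ∀ r ∈ S, rho r ∈ T)
    {g : GL chevD4.Idx F} (hg : g ∈ rootGen chevD4 F S) : alpha F g ∈ rootGen chevD4 F T := by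
  induction hg using Subgroup.closure_induction with
  | mem g hg =>
    obtain ⟨r, t, hr, e⟩ := hg
    have : g = xGL hc F (hS r hr) t := Units.ext e
    rw [this, alpha_x]
    exact mem_rootGen (hST r hr) rfl
  | one => simp
  | mul a b _ _ ha hb => rw [map_mul]; exact mul_mem ha hb
  | inv a _ ha => rw [map_inv]; exact inv_mem ha

/-- A diagonal entry of an element of the diagonal subgroup, as a unit. -/
noncomputable def diagUnit {t : GL chevD4.Idx F} (ht : t ∈ chevD4.diagonalSubgroup F) (r : Fin chevD4.nroots) : Fˣ :=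
  Units.mk0 ((t : Matrix chevD4.Idx chevD4.Idx F) (Sum.inr r) (Sum.inr r)) (by
    rw [Rooted.diagonalSubgroup_eq (Rooted.mk checked_D4 descent_D4)] at ht
    obtain ⟨c, rfl⟩ := ht
    simp [coe_torusHom, ChevalleyDatum.charDiag])

set_option maxRecDepth 100000 in
theorem coef_inj : ∀ a < 24, ∀ b < 24,
    (∀ j < 4, coef chevD4 D4.cert j a = coef chevD4 D4.cert j b) → a = b := by
  decide +kernel

theorem mem_pos {r : ℕ} : r ∈ posSet chevD4 ↔ 12 ≤ r ∧ r < 24 := Iff.rfl

theorem alpha_pos {g : GL chevD4.Idx F} (hg : g ∈ chevD4.posUnipotent F) : alpha F g ∈ chevD4.posUnipotent F := by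
  rw [Checked.posUnipotent_eq hc] at hg ⊢
  exact alpha_rootGen (fun r hr => hr.2)
    (fun r hr => mem_pos.2 ⟨((rho_facts.1 r hr.2).2.2).2 hr.1, rho_lt hr.2⟩) hg

/-- The parameters of the image of a torus element. -/
def torusImage (c : ℕ → Fˣ) (j : ℕ) : Fˣ := c (d4Graph.node (d4Graph.node j))

theorem torusFun_image (c : ℕ → Fˣ) {r : ℕ} (hr : r < chevD4.nroots) :
    torusFun chevD4 (torusImage c) (rho r) = torusFun chevD4 c r := by
  have e : ∀ i : ℕ, i < 4 → chevD4.cartan (d4Graph.node i) (rho r) = chevD4.cartan i r := fun i hi =>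
    d4Graph_facts.cartan r hr i hi
  have e0 := e 0 (by norm_num); have e1 := e 1 (by norm_num)
  have e2 := e 2 (by norm_num); have e3 := e 3 (by norm_num)
  simp only [show d4Graph.node 0 = 2 from rfl, show d4Graph.node 1 = 1 from rfl, show d4Graph.node 2 = 3 from rfl,
    show d4Graph.node 3 = 0 from rfl] at e0 e1 e2 e3
  simp only [torusFun, show chevD4.rank = 4 from rfl, Finset.prod_range_succ, Finset.prod_range_zero, one_mul,
    torusImage, show d4Graph.node 0 = 2 from rfl, show d4Graph.node 1 = 1 from rfl,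
    show d4Graph.node 2 = 3 from rfl, show d4Graph.node 3 = 0 from rfl, e0, e1, e2, e3]
  ac_rfl

theorem alpha_torusHom (c : ℕ → Fˣ) :
    alpha F (torusHom chevD4 F c) = torusHom chevD4 F (torusImage c) := by
  refine Units.ext ?_
  show GraphData.conjMap d4Graph_facts F _ = _
  rw [coe_torusHom, coe_torusHom]
  ext a b
  obtain ⟨a, rfl⟩ := (GraphData.idxEquiv d4Graph_facts).surjective a
  obtain ⟨b, rfl⟩ := (GraphData.idxEquiv d4Graph_facts).surjective b
  simp only [GraphData.conjMap, MulEquiv.coe_mk, Equiv.coe_fn_mk, Matrix.of_apply, Equiv.symm_apply_apply,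
    ChevalleyDatum.charDiag, Matrix.diagonal_apply, (GraphData.idxEquiv d4Graph_facts).injective.eq_iff]
  split_ifs with h
  · subst h
    rw [GraphData.idxSign_sq F d4Graph_facts, one_mul]
    rcases a with i | r
    · rfl
    · rw [GraphData.idxEquiv_inr]
      exact congrArg Units.val (torusFun_image c r.2).symm
  · rw [mul_zero]

theorem alpha_diag {g : GL chevD4.Idx F} (hg : g ∈ chevD4.diagonalSubgroup F) :
    alpha F g ∈ chevD4.diagonalSubgroup F := by
  rw [Rooted.diagonalSubgroup_eq hh] at hg ⊢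
  obtain ⟨c, rfl⟩ := hg
  exact ⟨torusImage c, (alpha_torusHom c).symm⟩

theorem alpha_borel {g : GL chevD4.Idx F} (hg : g ∈ chevD4.borelSubgroup F) :
    alpha F g ∈ chevD4.borelSubgroup F := by
  obtain ⟨u, hu, t, ht, rfl⟩ := (Rooted.mem_borel_iff hh).1 hg
  rw [map_mul]
  exact (Rooted.mem_borel_iff hh).2 ⟨_, alpha_pos hu, _, alpha_diag ht, rfl⟩

theorem alpha_nS (i : ℕ) (hi : i < chevD4.rank) :
    alpha F (nS hc F i) = nS hc F (d4Graph.node i) := by
  refine Units.ext ?_
  show GraphData.conjMap d4Graph_facts F _ = _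
  rw [coe_nS hc hi, coe_nS hc (d4Graph_facts.node_lt i hi)]
  have hr := Checked.simple_lt hc hi
  have hn : chevD4.neg (chevD4.simple i) < chevD4.nroots := by
    show chevD4.negIdx.getD _ 0 < _
    exact d4Graph_facts.neg_lt _ hr
  have hroot : d4Graph.root (chevD4.neg (chevD4.simple i)) = chevD4.neg (d4Graph.root (chevD4.simple i)) :=
    d4Graph_facts.root_neg _ hr
  have hsign : d4Graph.sign (chevD4.neg (chevD4.simple i)) = d4Graph.sign (chevD4.simple i) :=
    d4Graph_facts.sign_neg _ hr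
  have hsimple : ∀ i < 4, d4Graph.sign (chevD4.simple i) = 1 ∧
      d4Graph.root (chevD4.simple i) = chevD4.simple (d4Graph.node i) := by decide +kernel
  obtain ⟨h1, h2⟩ := hsimple i hi
  simp [ChevalleyDatum.nMat, ChevalleyDatum.nWord, ChevalleyDatum.wordMat, map_mul,
    GraphData.conjMap_x d4Graph_facts F hr, GraphData.conjMap_x d4Graph_facts F hn, hroot, hsign, h1, h2]

theorem alpha_nProd : ∀ {L : List ℕ}, IsWord chevD4 L →
    alpha F (nProd hc F L) = nProd hc F (L.map d4Graph.node)
  | [], _ => by simp [nProd]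
  | i :: L, hL => by
    rw [nProd_cons, List.map_cons, nProd_cons, map_mul, alpha_nS i hL.cons.1, alpha_nProd hL.cons.2]

theorem isWord_map {L : List ℕ} (hL : IsWord chevD4 L) : IsWord chevD4 (L.map d4Graph.node) := by
  intro i hi
  obtain ⟨j, hj, rfl⟩ := List.mem_map.1 hi
  exact d4Graph_facts.node_lt j (hL j hj)

theorem perm_map : ∀ {L : List ℕ}, IsWord chevD4 L → ∀ {r : ℕ}, r < 24 →
    perm D4.cert (L.map d4Graph.node) (rho r) = rho (perm D4.cert L r)
  | [], _, _, _ => rfl
  | i :: L, hL, r, hr => by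
    rw [List.map_cons, perm_cons, perm_cons, perm_map hL.cons.2 hr]
    exact refl_rho i hL.cons.1 _ (Checked.perm_lt hc hL.cons.2 hr)

theorem code4_inj {a b c d : ℕ} (hb : b < 32) (hc' : c < 32) (hd : d < 32) :
    code4 a b c d / 32768 = a ∧ code4 a b c d / 1024 % 32 = b ∧ code4 a b c d / 32 % 32 = c ∧
      code4 a b c d % 32 = d := by
  unfold code4; omega

theorem perm_code_mem : ∀ {L : List ℕ}, IsWord chevD4 L →
    code4 (perm D4.cert L 18) (perm D4.cert L 14) (perm D4.cert L 13) (perm D4.cert L 12) ∈ weylCodes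
  | [], _ => by
    have h := weylCodes_closed
    simp only [Bool.and_eq_true, List.contains_iff_mem] at h
    exact h.1
  | i :: L, hL => by
    have h := weylCodes_closed
    simp only [Bool.and_eq_true, List.contains_iff_mem, List.all_eq_true, List.mem_range] at h
    have hlt : ∀ r < 24, perm D4.cert L r < 32 := fun r hr =>
      lt_trans (Checked.perm_lt hc hL.cons.2 hr) (by decide)
    obtain ⟨e1, e2, e3, e4⟩ := code4_inj (a := perm D4.cert L 18) (hlt 14 (by norm_num)) (hlt 13 (by norm_num))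
      (hlt 12 (by norm_num))
    have := h.2 _ (perm_code_mem hL.cons.2) i hL.cons.1
    rwa [e1, e2, e3, e4] at this

theorem fixedWords_word : ∀ M ∈ fixedWords, ∀ i ∈ M, i < chevD4.rank := by decide +kernel

/-- A word whose permutation commutes with triality has one of the twelve permutations. -/
theorem exists_fixedWord {L : List ℕ} (hL : IsWord chevD4 L)
    (hfix : wperm hc (L.map d4Graph.node) = wperm hc L) :
    ∃ M ∈ fixedWords, IsWord chevD4 M ∧ wperm hc M = wperm hc L := by
  have hp := (Checked.wperm_eq_iff hc (isWord_map hL) hL).1 hfix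
  have hcomm : ∀ r < 24, rho (perm D4.cert L r) = perm D4.cert L (rho r) := fun r hr => by
    rw [← perm_map hL hr]; exact hp _ (rho_lt hr)
  have hlt : ∀ r < 24, perm D4.cert L r < 32 := fun r hr =>
    lt_trans (Checked.perm_lt hc hL hr) (by decide)
  obtain ⟨e1, e2, e3, e4⟩ := code4_inj (a := perm D4.cert L 18) (hlt 14 (by norm_num)) (hlt 13 (by norm_num))
    (hlt 12 (by norm_num))
  have ht := List.all_eq_true.1 fixed_tuples _ (perm_code_mem hL)
  rw [e1, e2, e3, e4] at ht
  simp only [Bool.or_eq_true, Bool.not_eq_true', Bool.and_eq_false_iff, List.any_eq_true] at ht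
  rcases ht with ht | ⟨M, hM, hMe⟩
  · exfalso
    rw [hcomm 18 (by norm_num), hcomm 14 (by norm_num), hcomm 13 (by norm_num), hcomm 12 (by norm_num),
      show rho 18 = 13 from rfl, show rho 14 = 14 from rfl, show rho 13 = 12 from rfl,
      show rho 12 = 18 from rfl] at ht
    simp at ht
  · have hMw : IsWord chevD4 M := fixedWords_word M hM
    refine ⟨M, hM, hMw, ?_⟩
    have e := Nat.eq_of_beq_eq_true hMe
    have hlt' : ∀ r < 24, perm D4.cert M r < 32 := fun r hr =>
      lt_trans (Checked.perm_lt hc hMw hr) (by decide)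
    obtain ⟨f1, f2, f3, f4⟩ := code4_inj (a := perm D4.cert M 18) (hlt' 14 (by norm_num)) (hlt' 13 (by norm_num))
      (hlt' 12 (by norm_num))
    rw [← e, e1] at f1
    rw [← e, e2] at f2
    rw [← e, e3] at f3
    rw [← e, e4] at f4
    refine (Checked.wperm_eq_iff hc hMw hL).2 fun r hr => ?_
    have hcoef : ∀ j < 4, coef chevD4 D4.cert j (perm D4.cert M r) = coef chevD4 D4.cert j (perm D4.cert L r) := by
      intro j hj
      rw [Checked.coef_perm hc hj hMw hr, Checked.coef_perm hc hj hL hr]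
      refine Finset.sum_congr rfl fun l hl => ?_
      rw [Finset.mem_range] at hl
      change l < 4 at hl
      interval_cases l
      · rw [show chevD4.simple 0 = 18 from rfl, f1]
      · rw [show chevD4.simple 1 = 14 from rfl, f2]
      · rw [show chevD4.simple 2 = 13 from rfl, f3]
      · rw [show chevD4.simple 3 = 12 from rfl, f4]
    exact coef_inj _ (Checked.perm_lt hc hMw hr) _ (Checked.perm_lt hc hL hr) hcoef

theorem perm_rho {M : List ℕ} (hM : M ∈ fixedWords) {r : ℕ} (hr : r < 24) :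
    perm D4.cert (M.map d4Graph.node) r = perm D4.cert M r ∧
      rho (perm D4.cert M r) = perm D4.cert M (rho r) := by
  have h : ∀ M ∈ fixedWords, ∀ r < 24, perm D4.cert (M.map d4Graph.node) r = perm D4.cert M r := by
    intro M hM r hr
    have h := fixedWords_ok
    simp only [List.all_eq_true, Bool.and_eq_true, List.mem_range] at h
    obtain ⟨i, hi, rfl⟩ := List.getElem_of_mem hM
    have hmem : (fixedWords[i], fixedLengths[i]'(by simpa [fixedLengths, fixedWords_length] using hi)) ∈
        fixedWords.zip fixedLengths := by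
      refine List.mem_iff_getElem.2 ⟨i, by simp [fixedLengths, fixedWords_length] at hi ⊢; omega, by simp⟩
    exact Nat.eq_of_beq_eq_true ((h _ hmem).1.2 r hr)
  refine ⟨h M hM r hr, ?_⟩
  rw [← perm_map (fixedWords_word M hM) hr]
  exact h M hM _ (rho_lt hr)

/-- The index of a fundamental coroot paired to `±1` with a root. -/
def pick (k : ℕ) : Fin chevD4.rank :=
  if (chevD4.cartanSR.getD 0 #[]).getD k 0 = 1 ∨ (chevD4.cartanSR.getD 0 #[]).getD k 0 = -1 then ⟨0, by decide⟩
  else if (chevD4.cartanSR.getD 1 #[]).getD k 0 = 1 ∨ (chevD4.cartanSR.getD 1 #[]).getD k 0 = -1 then ⟨1, by decide⟩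
  else if (chevD4.cartanSR.getD 2 #[]).getD k 0 = 1 ∨ (chevD4.cartanSR.getD 2 #[]).getD k 0 = -1 then ⟨2, by decide⟩
  else ⟨3, by decide⟩

set_option maxRecDepth 100000 in
theorem pick_ok : ∀ k < 24, 12 ≤ k → (chevD4.cartanSR.getD (pick k).val #[]).getD k 0 = 1 ∨
    (chevD4.cartanSR.getD (pick k).val #[]).getD k 0 = -1 := by
  decide +kernel

theorem node_triple : ∀ i < 4, d4Graph.node (d4Graph.node (d4Graph.node i)) = i := by decide +kernel

theorem ent_rho {u : GL chevD4.Idx F} (hu : alpha F u = u) (z : Fin chevD4.nroots) (i : Fin chevD4.rank) :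
    ent u ⟨rho z.val, rho_lt z.2⟩ ⟨d4Graph.node i.val, d4Graph_facts.node_lt i i.2⟩ =
      (d4Graph.sign z.val : F) * ent u z i := by
  have := fixed_entry hu (Sum.inr z) (Sum.inl i)
  simp only [sig, GraphData.idxEquiv_inr, GraphData.idxEquiv_inl, GraphData.idxSign, mul_one] at this
  exact this

/-- A fixed unipotent element is determined by one entry for each orbit of roots. -/
theorem fixed_unipotent_eq {S : Set ℕ} (hS : S ⊆ posSet chevD4) (hcl : ClosedSet chevD4 D4.cert S)
    {u v : GL chevD4.Idx F} (hu : u ∈ rootGen chevD4 F S) (hv : v ∈ rootGen chevD4 F S)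
    (hau : alpha F u = u) (hav : alpha F v = v)
    (he : ∀ k : Fin chevD4.nroots, k.val ∈ minRoots → k.val ∈ S → ent u k (pick k.val) = ent v k (pick k.val)) :
    u = v := by
  by_contra hne
  obtain ⟨k, hk, c, hc0, hcc⟩ := exists_first_diff hc S hS hcl hu hv hne
  have hne' : ent u k (pick k.val) - ent v k (pick k.val) ≠ 0 := by
    rw [(hcc _).2]
    rcases pick_ok k.val k.2 (hS hk).1 with e | e <;> rw [e] <;> simpa using hc0
  obtain ⟨m, hm, hmk, hor⟩ := rho_facts.2.1 k.val k.2 (hS hk).1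
  by_cases hmeq : m = k.val
  · exact hne' (sub_eq_zero.2 (he k (hmeq ▸ hm) hk))
  have hm24 : m < chevD4.nroots := lt_of_le_of_lt hmk k.2
  have h0 : ∀ i, ent u ⟨m, hm24⟩ i = ent v ⟨m, hm24⟩ i := fun i =>
    (hcc i).1 _ (Fin.lt_def.2 (lt_of_le_of_ne hmk hmeq))
  have step : ∀ z : Fin chevD4.nroots, (∀ i, ent u z i = ent v z i) →
      ∀ i, ent u ⟨rho z.val, rho_lt z.2⟩ i = ent v ⟨rho z.val, rho_lt z.2⟩ i := by
    intro z hz i
    have e : i = ⟨d4Graph.node (d4Graph.node (d4Graph.node i.val)),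
        d4Graph_facts.node_lt _ (d4Graph_facts.node_lt _ (d4Graph_facts.node_lt _ i.2))⟩ :=
      Fin.ext (node_triple i.val i.2).symm
    rw [e, ent_rho hau z ⟨_, d4Graph_facts.node_lt _ (d4Graph_facts.node_lt _ i.2)⟩,
      ent_rho hav z ⟨_, d4Graph_facts.node_lt _ (d4Graph_facts.node_lt _ i.2)⟩, hz]
  rcases hor with e | e | e
  · exact hmeq e.symm
  · refine hne' (sub_eq_zero.2 ?_)
    rw [show k = ⟨rho m, rho_lt hm24⟩ from Fin.ext e]
    exact step _ h0 _
  · refine hne' (sub_eq_zero.2 ?_)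
    rw [show k = ⟨rho (rho m), rho_lt (rho_lt hm24)⟩ from Fin.ext e]
    exact step _ (step _ h0) _

/-- A fixed torus element is determined by two root values. -/
theorem fixed_torus_eq {t t' : GL chevD4.Idx F} (ht : t ∈ chevD4.diagonalSubgroup F)
    (ht' : t' ∈ chevD4.diagonalSubgroup F) (h : alpha F (t * t'⁻¹) = t * t'⁻¹)
    (h18 : (t : Matrix chevD4.Idx chevD4.Idx F) (Sum.inr ⟨18, by decide⟩) (Sum.inr ⟨18, by decide⟩) =
      (t' : Matrix chevD4.Idx chevD4.Idx F) (Sum.inr ⟨18, by decide⟩) (Sum.inr ⟨18, by decide⟩))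
    (h14 : (t : Matrix chevD4.Idx chevD4.Idx F) (Sum.inr ⟨14, by decide⟩) (Sum.inr ⟨14, by decide⟩) =
      (t' : Matrix chevD4.Idx chevD4.Idx F) (Sum.inr ⟨14, by decide⟩) (Sum.inr ⟨14, by decide⟩)) :
    t = t' := by
  rw [Rooted.diagonalSubgroup_eq hh] at ht ht'
  obtain ⟨c, rfl⟩ := ht
  obtain ⟨c', rfl⟩ := ht'
  have hval : ∀ (a : ℕ → Fˣ) (r : ℕ) (hr : r < chevD4.nroots),
      ((torusHom chevD4 F a : GL chevD4.Idx F) : Matrix chevD4.Idx chevD4.Idx F) (Sum.inr ⟨r, hr⟩) (Sum.inr ⟨r, hr⟩)
        = (torusFun chevD4 a r : F) := fun a r hr => by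
    simp [coe_torusHom, ChevalleyDatum.charDiag]
  rw [hval, hval, Units.val_inj] at h18 h14
  rw [← map_inv, ← map_mul] at h
  set d := c * c'⁻¹ with hd
  have hfun : ∀ r, torusFun chevD4 d r = torusFun chevD4 c r * (torusFun chevD4 c' r)⁻¹ := fun r => by
    simp [torusFun, hd, mul_zpow, Finset.prod_mul_distrib]
  rw [alpha_torusHom] at h
  have hrho : ∀ r (hr : r < chevD4.nroots), torusFun chevD4 d (rho r) = torusFun chevD4 d r := fun r hr => by
    have e := congrArg (fun g : GL chevD4.Idx F =>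
      (g : Matrix chevD4.Idx chevD4.Idx F) (Sum.inr ⟨rho r, rho_lt hr⟩) (Sum.inr ⟨rho r, rho_lt hr⟩)) h
    rw [hval _ _ (rho_lt hr), hval _ _ (rho_lt hr), torusFun_image d hr] at e
    exact (Units.ext e).symm
  have a18 : torusFun chevD4 d 18 = 1 := by rw [hfun, h18, mul_inv_cancel]
  have a14 : torusFun chevD4 d 14 = 1 := by rw [hfun, h14, mul_inv_cancel]
  have a13 : torusFun chevD4 d 13 = 1 := (hrho 18 (by decide)).trans a18
  have a12 : torusFun chevD4 d 12 = 1 := (hrho 13 (by decide)).trans a13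
  have hall : ∀ r (hr : r < chevD4.nroots), torusFun chevD4 d r = 1 := fun r hr => by
    rw [← Checked.chiOf_torus hc d hr, chiOf]
    refine Finset.prod_eq_one fun j hj => ?_
    rw [Finset.mem_range] at hj
    change j < 4 at hj
    interval_cases j
    · rw [show chevD4.simple 0 = 18 from rfl, a18, one_zpow]
    · rw [show chevD4.simple 1 = 14 from rfl, a14, one_zpow]
    · rw [show chevD4.simple 2 = 13 from rfl, a13, one_zpow]
    · rw [show chevD4.simple 3 = 12 from rfl, a12, one_zpow]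
  have : torusHom chevD4 F d = 1 := by
    refine Units.ext ?_
    rw [coe_torusHom, Units.val_one, ← charDiag_one (D := chevD4) (F := F)]
    unfold ChevalleyDatum.charDiag
    congr 1
    funext x
    rcases x with i | r
    · rfl
    · simp [hall r.val r.2]
  rwa [hd, map_mul, map_inv, mul_inv_eq_one] at this

/-- The data of a fixed element in canonical form. -/
theorem exists_fixed_form {g : GL chevD4.Idx F} (hg : g ∈ fixedGroup F) :
    ∃ (j : Fin fixedWords.length) (v t u : GL chevD4.Idx F),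
      v ∈ chevD4.posUnipotent F ∧ t ∈ chevD4.diagonalSubgroup F ∧
      u ∈ rootGen chevD4 F (invSet chevD4 D4.cert fixedWords[j.val]) ∧
      alpha F v = v ∧ alpha F u = u ∧
      alpha F t * (nProd hc F (fixedWords[j.val].map d4Graph.node) * (nProd hc F fixedWords[j.val])⁻¹) = t ∧
      g = v * t * nProd hc F fixedWords[j.val] * u := by
  obtain ⟨hgG, hga⟩ := mem_fixedGroup.1 hg
  obtain ⟨L, hL, hm⟩ := Rooted.exists_doubleCoset hh hgG
  have hm' : g ∈ DoubleCoset.doubleCoset (nProd hc F (L.map d4Graph.node))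
      (chevD4.borelSubgroup F : Set (GL chevD4.Idx F)) (chevD4.borelSubgroup F) := by
    obtain ⟨b, hb, b', hb', e⟩ := DoubleCoset.mem_doubleCoset.1 hm
    refine DoubleCoset.mem_doubleCoset.2 ⟨_, alpha_borel hb, _, alpha_borel hb', ?_⟩
    rw [← alpha_nProd hL, ← map_mul, ← map_mul, ← e, hga]
  obtain ⟨M, hM, hMw, hMe⟩ := exists_fixedWord hL (Rooted.wperm_eq_of_diag hh hL (isWord_map hL)
    (Rooted.diag_mem_of_mem_doubleCoset hh (Rooted.nProd_mem_monomial hh hL)
      (Rooted.nProd_mem_monomial hh (isWord_map hL)) hm hm'))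
  obtain ⟨b, hb, b', hb', e⟩ : ∃ b ∈ chevD4.borelSubgroup F, ∃ c ∈ chevD4.borelSubgroup F,
      g = b * nProd hc F M * c := by
    obtain ⟨p, hp, q, hq, rfl⟩ := DoubleCoset.mem_doubleCoset.1 hm
    exact ⟨p, hp, (nProd hc F M)⁻¹ * nProd hc F L * q,
      mul_mem (Subgroup.mem_sup_right (Rooted.diag_of_wperm_eq hh hMw hL hMe)) hq, by group⟩
  obtain ⟨b₀, hb₀, u, hu, rfl⟩ := Rooted.exists_mul_of_mem_doubleCoset hh hMw
    (DoubleCoset.mem_doubleCoset.2 ⟨b, hb, b', hb', e⟩)
  obtain ⟨j, hj, rfl⟩ := List.getElem_of_mem hM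
  set M := fixedWords[j] with hMdef
  set d := nProd hc F (M.map d4Graph.node) * (nProd hc F M)⁻¹ with hd
  have hdiag : d ∈ chevD4.diagonalSubgroup F := by
    have h := Rooted.diag_of_wperm_eq hh (F := F) hMw (isWord_map hMw)
      ((Checked.wperm_eq_iff hc hMw (isWord_map hMw)).2 fun r hr => ((perm_rho hM hr).1).symm)
    obtain ⟨t', ht', et⟩ := Rooted.nProd_conj_diag hh hMw h
    rw [mul_inv_cancel_left] at et
    rw [hd, et, mul_inv_cancel_right]
    exact ht'
  have hinv : ∀ r ∈ invSet chevD4 D4.cert M, rho r ∈ invSet chevD4 D4.cert M := by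
    intro r hr
    obtain ⟨h12, h24⟩ := hr.1
    refine ⟨⟨((rho_facts.1 r h24).2.2).2 h12, rho_lt h24⟩, ?_⟩
    have h2 := hr.2
    rw [← (perm_rho hM h24).2]
    have hlt := Checked.perm_lt hc hMw h24
    have := (rho_facts.1 _ hlt).2.2
    show rho (perm D4.cert M r) < 12
    have h2' : perm D4.cert M r < 12 := h2
    omega
  have hu' := alpha_rootGen (F := F) (fun r hr => hr.1.2) hinv hu
  have hga' : alpha F b₀ * d * nProd hc F M * alpha F u = b₀ * nProd hc F M * u := by
    conv_rhs => rw [← hga]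
    rw [map_mul, map_mul, alpha_nProd hMw, hd]
    group
  obtain ⟨eb, eu⟩ := Rooted.canonical_unique hh hMw (mul_mem (alpha_borel hb₀) (Subgroup.mem_sup_right hdiag)) hb₀
    hu' hu hga'
  obtain ⟨v, hv, t, ht, rfl⟩ := (Rooted.mem_borel_iff hh).1 hb₀
  rw [map_mul] at eb
  have hone : v⁻¹ * alpha F v = t * (alpha F t * d)⁻¹ := by
    calc v⁻¹ * alpha F v = v⁻¹ * (alpha F v * alpha F t * d) * (alpha F t * d)⁻¹ := by group
      _ = v⁻¹ * (v * t) * (alpha F t * d)⁻¹ := by rw [eb]
      _ = t * (alpha F t * d)⁻¹ := by group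
  have h1 : v⁻¹ * alpha F v = 1 := Subgroup.mem_bot.1 ((Rooted.posUnipotent_inf_diagonal hh).le
    (Subgroup.mem_inf.2 ⟨mul_mem (inv_mem hv) (alpha_pos hv),
      by rw [hone]; exact mul_mem ht (inv_mem (mul_mem (alpha_diag ht) hdiag))⟩))
  refine ⟨⟨j, hj⟩, v, t, u, hv, ht, hu, (inv_mul_eq_one.1 h1).symm, eu, ?_, rfl⟩
  exact (mul_inv_eq_one.1 (hone.symm.trans h1)).symm

/-- The orbits of roots made negative by one of the twelve words. -/
abbrev negOrbits (j : Fin fixedWords.length) : Type :=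
  {k : Fin chevD4.nroots // k.val ∈ minRoots ∧ perm D4.cert fixedWords[j.val] k.val < 12}

set_option maxRecDepth 100000 in
theorem card_negOrbits : ∀ j : Fin fixedWords.length, Fintype.card (negOrbits j) = fixedLengths.getD j.val 0 := by
  decide +kernel

/-- The code space of the fixed points. -/
abbrev Code (F : Type*) [Field F] : Type _ :=
  Σ j : Fin fixedWords.length, ({k : Fin chevD4.nroots // k.val ∈ minRoots} → F) × (Fˣ × Fˣ) × (negOrbits j → F)

theorem card_minRoots : Fintype.card {k : Fin chevD4.nroots // k.val ∈ minRoots} = 6 := by decide +kernel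

/-- There are at most as many fixed points as elements of G2(q). -/
theorem card_fixedGroup_le [Fintype F] :
    Nat.card ↥(fixedGroup F) ≤
      Fintype.card F ^ 6 * (Fintype.card F ^ 2 - 1) * (Fintype.card F ^ 6 - 1) := by
  classical
  set q := Fintype.card F with hq
  have H := fun g : ↥(fixedGroup F) => exists_fixed_form g.2
  choose j v t u hv ht hu hav hau hat hg using H
  let code : ↥(fixedGroup F) → Code F := fun g => ⟨j g, fun k => ent (v g) k.1 (pick k.1.val),
    (diagUnit (ht g) ⟨18, by decide⟩, diagUnit (ht g) ⟨14, by decide⟩),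
    fun k => ent (u g) k.1 (pick k.1.val)⟩
  have hinj : Function.Injective code := by
    intro g g' e
    simp only [code, Sigma.mk.injEq] at e
    obtain ⟨ej, e'⟩ := e
    have key : ∀ (i i' : Fin fixedWords.length), i = i' → ∀ (x x' : GL chevD4.Idx F),
        x ∈ rootGen chevD4 F (invSet chevD4 D4.cert fixedWords[i.val]) →
        x' ∈ rootGen chevD4 F (invSet chevD4 D4.cert fixedWords[i'.val]) → alpha F x = x → alpha F x' = x' →
        HEq (fun k : negOrbits i => ent x k.1 (pick k.1.val)) (fun k : negOrbits i' => ent x' k.1 (pick k.1.val)) →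
        x = x' := by
      rintro i _ rfl x x' hx hx' hax hax' he
      refine fixed_unipotent_eq (S := invSet chevD4 D4.cert fixedWords[i.val]) (Checked.invSet_subset hc _)
        (Checked.closedSet_invSet hc (fixedWords_word _ (List.getElem_mem _))) hx hx' hax hax' fun k hk hkS => ?_
      exact congrFun (eq_of_heq he) ⟨k, hk, hkS.2⟩
    have hsplit : ∀ (i i' : Fin fixedWords.length), i = i' →
        ∀ (a a' : {k : Fin chevD4.nroots // k.val ∈ minRoots} → F) (b b' : Fˣ × Fˣ) (c : negOrbits i → F)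
          (c' : negOrbits i' → F), HEq (a, b, c) (a', b', c') → a = a' ∧ b = b' ∧ HEq c c' := by
      rintro i _ rfl a a' b b' c c' he
      have := eq_of_heq he
      simp only [Prod.mk.injEq] at this
      exact ⟨this.1, this.2.1, heq_of_eq this.2.2⟩
    obtain ⟨ea, eb, ec⟩ := hsplit _ _ ej _ _ _ _ _ _ e'
    have hu_eq : u g = u g' := key _ _ ej _ _ (hu g) (hu g') (hau g) (hau g') ec
    have hvS : ∀ x : ↥(fixedGroup F), v x ∈ rootGen chevD4 F (posSet chevD4) := fun x => by
      rw [← Checked.posUnipotent_eq hc]; exact hv x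
    have hv_eq : v g = v g' := fixed_unipotent_eq (S := posSet chevD4) subset_rfl (Checked.closedSet_pos hc)
      (hvS g) (hvS g') (hav g) (hav g') fun k hk _ => congrFun ea ⟨k, hk⟩
    have ht_eq : t g = t g' := by
      simp only [Prod.mk.injEq] at eb
      refine fixed_torus_eq (ht g) (ht g') ?_ (congrArg Units.val eb.1) (congrArg Units.val eb.2)
      have h1 := hat g
      have h2 := hat g'
      rw [← ej] at h2
      set d := nProd hc F (fixedWords[(j g).val].map d4Graph.node) * (nProd hc F fixedWords[(j g).val])⁻¹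
      conv_rhs => rw [← h1, ← h2]
      rw [map_mul, map_inv]
      group
    refine Subtype.ext ?_
    rw [hg g, hg g', hu_eq, hv_eq, ht_eq, ej]
  refine (Nat.card_le_card_of_injective code hinj).trans (le_of_eq ?_)
  rw [Nat.card_eq_fintype_card, Fintype.card_sigma]
  simp only [Fintype.card_prod, Fintype.card_fun, Fintype.card_units, card_minRoots, card_negOrbits, ← hq]
  rw [← Finset.mul_sum, ← Finset.mul_sum]
  show q ^ 6 * ((q - 1) * (q - 1) * ∑ x : Fin 12, q ^ fixedLengths.getD x.val 0) = _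
  obtain ⟨m, hm⟩ : ∃ m, q = m + 1 := ⟨q - 1, by have := Fintype.card_pos (α := F); omega⟩
  rw [hm]
  simp only [fixedLengths, Fin.sum_univ_succ, Fin.sum_univ_zero, Fin.val_zero, Fin.val_succ]
  simp only [List.getD_cons_zero, List.getD_cons_succ, Nat.add_sub_cancel]
  have h2 : (m + 1) ^ 2 - 1 = m ^ 2 + 2 * m := Nat.sub_eq_of_eq_add (by ring)
  have h6 : (m + 1) ^ 6 - 1 = m ^ 6 + 6 * m ^ 5 + 15 * m ^ 4 + 20 * m ^ 3 + 15 * m ^ 2 + 6 * m :=
    Nat.sub_eq_of_eq_add (by ring)
  rw [h2, h6]
  ring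

end Cfsg.Agent.Lib.Triality
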