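import Cfsg.Agent.Lib.Twisted.GraphData
import Cfsg.Agent.Lib.Twisted.ExcIso
import Cfsg.Prelude.Def_ChevG2
import Cfsg.Agent.Lib.Chev.All
import Cfsg.Agent.Lib.Chev.Weyl

/-!
Tables for the triality of D4 and its fixed points: the fixed subalgebra of the adjoint module
(columns indexed by the basis of G2), the Weyl group of D4 as image tuples of the fundamental
roots, and the twelve Weyl group elements commuting with triality.
-/

set_option autoImplicit false

namespace Cfsg.Agent.Lib.Triality

open Cfsg.Lie Cfsg.Agent.Lib.Chev Cfsg.Agent.Lib.Chev.Checked Cfsg.Agent.Lib.Twisted Cfsg.Agent.Lib.Twisted.PolyMat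

/-- The column of the fixed vector containing a coordinate. -/
def kOfList : List ℕ := [0, 1, 0, 0, 2, 3, 4, 4, 5, 6, 4, 5, 5, 7, 6, 6, 9, 9, 8, 10, 10, 11, 9, 10, 11, 11, 12, 13]

/-- The coefficient of a coordinate in its fixed vector. -/
def cOfList : List ℤ := [1, 1, 1, 1, -1, -1, -1, -1, 1, 1, 1, -1, -1, 1, 1, 1, 1, 1, 1, -1, -1, 1, 1, 1, -1, -1, -1, -1]

/-- A coordinate in each fixed vector. -/
def repList : List ℕ := [0, 1, 4, 5, 6, 8, 9, 13, 18, 16, 19, 21, 26, 27]

/-- The numbered coordinates of D4. -/
def num4 (a : chevD4.Idx) : ℕ := (finSumFinEquiv a).val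

/-- The numbered coordinates of G2. -/
def num2 (j : chevG2.Idx) : ℕ := (finSumFinEquiv j).val

def cOf (a : chevD4.Idx) : ℤ := cOfList.getD (num4 a) 0

def kOf (a : chevD4.Idx) : ℕ := kOfList.getD (num4 a) 0

/-- The representative coordinate of a fixed vector. -/
def rep (j : chevG2.Idx) : chevD4.Idx :=
  finSumFinEquiv.symm (⟨repList.getD (num2 j) 0 % 28, Nat.mod_lt _ (by decide)⟩)

/-- The fixed vectors as columns. -/
def fixE (R : Type*) [CommRing R] : Matrix chevD4.Idx chevG2.Idx R :=
  Matrix.of fun a j => if kOf a = num2 j then (cOf a : R) else 0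

/-- The fixed vectors as a term list. -/
def fixTerms : List PolyMat.Term := (List.range 28).map fun a => (a, kOfList.getD a 0, 0, cOfList.getD a 0)

/-- The reading of fixed coordinates. -/
def fixP (R : Type*) [CommRing R] : Matrix chevG2.Idx chevD4.Idx R :=
  Matrix.of fun j a => if a = rep j then (cOf a : R) else 0

/-- Every coefficient is exactly zero. -/
def zeroExact (L : List (ℕ × ℤ)) : Bool := L.all fun q => expCoeff L q.1 == 0

theorem evalP_eq_zero_exact {R : Type*} [CommRing R] (t : R) {L : List (ℕ × ℤ)}
    (h : zeroExact L = true) : evalP t L = 0 := by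
  rw [evalP_eq_sum t L (L.map Prod.fst).toFinset fun q hq => by simpa using ⟨q.2, hq⟩]
  refine Finset.sum_eq_zero fun m hm => ?_
  simp only [List.mem_toFinset, List.mem_map] at hm
  obtain ⟨q, hq, rfl⟩ := hm
  simp only [zeroExact, List.all_eq_true, beq_iff_eq] at h
  rw [h q hq, Int.cast_zero, zero_mul]

/-- Two term lists have equal entries. -/
def sameEntries (L L' : List PolyMat.Term) : Bool :=
  (List.range 28).all fun i => (List.range 14).all fun j => zeroExact (entryP (L ++ neg L') i j)

theorem evalM_entry_eq {R : Type*} [CommRing R] (t : R) {L L' : List PolyMat.Term} (h : sameEntries L L' = true)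
    (i : Fin 28) (j : Fin 28) (hj : j.val < 14) : evalM 28 t L i j = evalM 28 t L' i j := by
  have e : (evalM 28 t L - evalM 28 t L') i j = 0 := by
    rw [sub_eq_add_neg, ← evalM_neg, ← evalM_append, evalM_apply]
    simp only [sameEntries, List.all_eq_true, List.mem_range] at h
    exact evalP_eq_zero_exact t (h i i.2 j hj)
  rwa [Matrix.sub_apply, sub_eq_zero] at e

/-- The folded root elements: the root of G2 and the roots of D4. -/
def folded : List (ℕ × List ℕ) := [(6, [14]), (5, [9]), (7, [12, 13, 18]), (4, [5, 10, 11])]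

/-- The terms of a product of root elements with one parameter. -/
def foldTerms : List ℕ → List PolyMat.Term
  | [] => (List.range 28).map fun i => (i, i, 0, 1)
  | r :: l => mul (IsoData.xList chevD4 r) (foldTerms l)

set_option maxRecDepth 100000 in
theorem folded_ok : ∀ p ∈ folded,
    sameEntries (mul (foldTerms p.2) fixTerms) (mul fixTerms (IsoData.xList chevG2 p.1)) = true := by
  decide +kernel

set_option maxRecDepth 100000 in
theorem folded_lt : ∀ p ∈ folded, p.1 < chevG2.nroots ∧ chevG2.negIdx.getD p.1 0 ≠ p.1 ∧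
    (∀ r ∈ p.2, r < chevD4.nroots ∧ chevD4.negIdx.getD r 0 ≠ r) ∧
    (∀ r ∈ p.2, ∀ q ∈ IsoData.xList chevD4 r, q.2.1 < 28) ∧
    (∀ q ∈ IsoData.xList chevG2 p.1, q.1 < 14) := by
  decide +kernel

theorem fixTerms_lt : ∀ q ∈ fixTerms, q.2.1 < 14 ∧ q.1 < 28 := by decide +kernel

/-- The codes of the image tuples of the fundamental roots under the Weyl group. -/
def weylCodes : List ℕ := [14733, 15725, 16778, 17770, 19853, 20845, 21898, 22890, 42480, 45328, 46567, 50439, 51696, 53520, 54759, 56583, 74193, 77105, 79302, 82214, 84433, 85297, 88518, 89382, 106030, 109097, 110798, 113865, 117294, 118313, 121038, 122057, 137743, 141832, 142575, 145640, 150031, 152072, 152815, 154856, 170412, 171435, 172364, 173387, 183724, 184747, 185676, 186699, 201365, 202389, 209013, 210562, 212085, 213634, 219234, 220258, 233078, 235126, 240790, 243297, 243862, 247393, 251009, 253057, 264915, 267987, 273092, 274483, 277188, 279603, 282660, 285732, 296628, 300724, 305827, 306260, 310947, 311380, 314435, 318531, 331351, 332375, 336055, 337079, 344640, 345664, 349344,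 350368, 363250, 365298, 368357, 370405, 375826, 377874, 380933, 382981, 394994, 397042, 400101, 402149, 407570, 409618, 412677, 414725, 427607, 428631, 432311, 433335, 440896, 441920, 445600, 446624, 459444, 463540, 466595, 467028, 471715, 472148, 477251, 481347, 492243, 495315, 498372, 500787, 503492, 504883, 509988, 513060, 524918, 526966, 530582, 534113, 534678, 537185, 542849, 544897, 557717, 558741, 564341, 565890, 567413, 568962, 575586, 576610, 591276, 592299, 593228, 594251, 604588, 605611, 606540, 607563, 623119, 625160, 625903, 627944, 632335, 635400, 636143, 640232, 655918, 656937, 659662, 660681, 664110, 667177, 668878, 671945, 688593, 689457, 692678, 693542, 695761, 698673, 700870, 703782, 721392, 723216, 724455, 726279, 727536, 731408, 732647, 735495, 755085, 756077, 757130, 758122, 760205, 761197, 762250, 763242]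

/-- The code of an image tuple. -/
def code4 (a b c d : ℕ) : ℕ := ((a * 32 + b) * 32 + c) * 32 + d

set_option maxRecDepth 100000 in
theorem weylCodes_closed : (weylCodes.contains (code4 18 14 13 12) && weylCodes.all fun m =>
    (List.range 4).all fun i => weylCodes.contains (code4 (refl D4.cert i (m / 32768))
      (refl D4.cert i (m / 1024 % 32)) (refl D4.cert i (m / 32 % 32)) (refl D4.cert i (m % 32)))) = true := by
  decide +kernel

/-- Words for the Weyl group elements commuting with triality. -/
def fixedWords : List (List ℕ) := [[], [1], [3, 2, 0], [1, 3, 2, 0], [3, 2, 0, 1], [1, 3, 2, 0, 1], [2, 0, 1, 3, 1, 2, 0], [1, 2, 0, 1, 3, 1, 2, 0], [2, 0, 1, 3, 1, 2, 0, 1], [1, 2, 0, 1, 3, 1, 2, 0, 1], [3, 1, 2, 0, 1, 3, 0, 1, 2, 1, 0], [3, 1, 2, 0, 1, 3, 0, 1, 2, 0, 1, 0]]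

/-- The numbers of orbits of roots they make negative. -/
def fixedLengths : List ℕ := [0, 1, 1, 2, 2, 3, 3, 4, 4, 5, 5, 6]

/-- The least roots of the orbits of triality on positive roots. -/
def minRoots : List ℕ := [12, 14, 15, 17, 22, 23]

/-- Triality on the roots. -/
def rho (r : ℕ) : ℕ := d4Graph.root r

set_option maxRecDepth 100000 in
/-- A tuple commuting with triality on the fundamental roots belongs to one of the twelve words:
triality sends the root 18 to 13, 13 to 12 and 12 to 18, and fixes 14. -/
theorem fixed_tuples : (weylCodes.all fun m =>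
    !(Nat.beq (rho (m / 32768)) (m / 32 % 32) && Nat.beq (rho (m / 1024 % 32)) (m / 1024 % 32) &&
      Nat.beq (rho (m / 32 % 32)) (m % 32) && Nat.beq (rho (m % 32)) (m / 32768)) ||
    fixedWords.any fun L => Nat.beq m (code4 (perm D4.cert L 18) (perm D4.cert L 14) (perm D4.cert L 13)
      (perm D4.cert L 12))) = true := by
  decide +kernel

set_option maxRecDepth 100000 in
theorem fixedWords_ok : ((fixedWords.zip fixedLengths).all fun p =>
    (p.1.all fun i => Nat.blt i 4) &&
    ((List.range 24).all fun r => Nat.beq (perm D4.cert (p.1.map d4Graph.node) r) (perm D4.cert p.1 r)) &&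
    Nat.beq ((minRoots.filter fun k => Nat.blt (perm D4.cert p.1 k) 12).length) p.2) = true := by
  decide +kernel

theorem fixedWords_length : fixedWords.length = 12 := rfl

set_option maxRecDepth 100000 in
/-- Triality commutes with the fundamental reflections. -/
theorem refl_rho : ∀ i < 4, ∀ r < 24, refl D4.cert (d4Graph.node i) (rho r) = rho (refl D4.cert i r) := by
  decide +kernel

set_option maxRecDepth 100000 in
theorem rho_facts : (∀ r < 24, rho r < 24 ∧ rho (rho (rho r)) = r ∧ (12 ≤ rho r ↔ 12 ≤ r)) ∧
    (∀ r < 24, 12 ≤ r → ∃ k ∈ minRoots, k ≤ r ∧ (r = k ∨ r = rho k ∨ r = rho (rho k))) ∧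
    (∀ k ∈ minRoots, 12 ≤ k ∧ k < 24) := by
  decide +kernel

end Cfsg.Agent.Lib.Triality
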