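import Cfsg.Agent.Lib.Triality.Counting
import Cfsg.Agent.Lib.Twisted.Generation
import Cfsg.Agent.S1059

/-!
The fixed points of triality in D4(q) are G2(q).
-/

set_option autoImplicit false

namespace Cfsg.Agent.Lib.Triality

open Cfsg.Lie Cfsg.Agent.Lib.Chev Cfsg.Agent.Lib.Twisted
open scoped Matrix

variable {F : Type*} [Field F]

local notation "hh" => rooted_four
local notation "hc" => Rooted.toChecked rooted_four

theorem cTerms_outer : ∀ r ∈ [5, 10, 11, 12, 13, 18], ∀ s ∈ [5, 10, 11, 12, 13, 18],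
    (12 ≤ r ↔ 12 ≤ s) → r ≠ s → s ≠ ng chevD4 r ∧ r < chevD4.nroots ∧ s < chevD4.nroots ∧
      chevD4.commTerms r s = [] := by
  decide +kernel

theorem cTerms_lt_aux : ∀ r ∈ [5, 10, 11, 12, 13, 18], r < chevD4.nroots := by decide +kernel

/-- Root elements without commutator terms commute. -/
theorem commute_of_nil {r s : ℕ} (hr : r < chevD4.nroots) (hs : s < chevD4.nroots) (h1 : s ≠ r)
    (h2 : s ≠ ng chevD4 r) (hnil : chevD4.commTerms r s = []) (t u : F) :
    Commute (chevD4.x F r t) (chevD4.x F s u) := by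
  have h := Checked.commutator_formula hc hr hs h1 h2 t u
  rw [ChevalleyDatum.commWord, hnil, List.map_nil, ChevalleyDatum.wordMat, List.map_nil, List.prod_nil,
    mul_one] at h
  exact h.symm

theorem isUnit_prod (t : F) (l : List ℕ) (hl : ∀ r ∈ l, r < chevD4.nroots) :
    IsUnit (l.map fun r => chevD4.x F r t).prod := by
  refine List.prod_isUnit fun m hm => ?_
  obtain ⟨r, hr, rfl⟩ := List.mem_map.1 hm
  exact (xGL hc F (hl r hr) t).isUnit

theorem commute_outer {r s : ℕ} (hr : r ∈ [5, 10, 11, 12, 13, 18]) (hs : s ∈ [5, 10, 11, 12, 13, 18])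
    (hiff : 12 ≤ r ↔ 12 ≤ s) (t u : F) : Commute (chevD4.x F r t) (chevD4.x F s u) := by
  by_cases hrs : r = s
  · subst hrs
    show chevD4.x F r t * chevD4.x F r u = chevD4.x F r u * chevD4.x F r t
    rw [Checked.x_add hc (cTerms_lt_aux r hr), Checked.x_add hc (cTerms_lt_aux r hr), add_comm]
  · obtain ⟨h1, h2, h3, h4⟩ := cTerms_outer r hr s hs hiff hrs
    exact commute_of_nil h2 h3 (Ne.symm hrs) h1 h4 t u

theorem fold_fixed : ∀ p ∈ folded, ∀ t : F, ∀ g : GL chevD4.Idx F,
    (g : Matrix chevD4.Idx chevD4.Idx F) = (p.2.map fun r => chevD4.x F r t).prod →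
    g ∈ fixedGroup F := by
  intro p hp t g hg
  have hmem : g ∈ chevD4.group F := by
    obtain ⟨-, -, h2, -, -⟩ := folded_lt p hp
    have : ∀ l : List ℕ, (∀ r ∈ l, r < chevD4.nroots) → ∃ x ∈ chevD4.group F,
        ((x : GL chevD4.Idx F) : Matrix chevD4.Idx chevD4.Idx F) = (l.map fun r => chevD4.x F r t).prod := by
      intro l
      induction l with
      | nil => intro _; exact ⟨1, one_mem _, by simp⟩
      | cons r l ih =>
        intro hl
        obtain ⟨x, hx, ex⟩ := ih fun a ha => hl a (List.mem_cons_of_mem _ ha)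
        refine ⟨xGL hc F (hl r List.mem_cons_self) t * x, mul_mem (Subgroup.subset_closure
          ⟨⟨r, hl r List.mem_cons_self⟩, t, ?_⟩) hx, by rw [Units.val_mul, ex, coe_xGL]; simp⟩
        rw [coe_xGL, ChevalleyDatum.x, dif_pos (hl r List.mem_cons_self)]
    obtain ⟨x, hx, ex⟩ := this p.2 fun r hr => (h2 r hr).1
    rwa [Units.ext (hg.trans ex.symm)]
  refine mem_fixedGroup.2 ⟨hmem, Units.ext ?_⟩
  show GraphData.conjMap d4Graph_facts F (g : Matrix chevD4.Idx chevD4.Idx F) = _
  rw [hg]
  have hx : ∀ r s : ℕ, r < chevD4.nroots → d4Graph.root r = s → d4Graph.sign r = 1 →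
      GraphData.conjMap d4Graph_facts F (chevD4.x F r t) = chevD4.x F s t := fun r s hr h1 h2 => by
    rw [GraphData.conjMap_x d4Graph_facts F hr, h1, h2, Int.cast_one, one_mul]
  simp only [folded, List.mem_cons, List.not_mem_nil, or_false] at hp
  rcases hp with rfl | rfl | rfl | rfl
  · simp [hx 14 14 (by decide) rfl rfl]
  · simp [hx 9 9 (by decide) rfl rfl]
  · simp only [List.map_cons, List.map_nil, List.prod_cons, List.prod_nil, mul_one, map_mul,
      hx 12 18 (by decide) rfl rfl, hx 13 12 (by decide) rfl rfl, hx 18 13 (by decide) rfl rfl]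
    exact ((commute_outer (r := 18) (s := 12) (by decide) (by decide) (by decide) t t).mul_right
      (commute_outer (r := 18) (s := 13) (by decide) (by decide) (by decide) t t)).eq.trans (mul_assoc _ _ _)
  · simp only [List.map_cons, List.map_nil, List.prod_cons, List.prod_nil, mul_one, map_mul,
      hx 5 10 (by decide) rfl rfl, hx 10 11 (by decide) rfl rfl, hx 11 5 (by decide) rfl rfl]
    rw [← mul_assoc]
    exact (((commute_outer (r := 5) (s := 10) (by decide) (by decide) (by decide) t t).mul_right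
      (commute_outer (r := 5) (s := 11) (by decide) (by decide) (by decide) t t)).eq).symm

theorem simple_folded : ∀ i < chevG2.rank,
    (∃ p ∈ folded, p.1 = chevG2.simple i) ∧ ∃ p ∈ folded, p.1 = chevG2.neg (chevG2.simple i) := by
  decide +kernel

theorem group_le_range : chevG2.group F ≤ (act F).range := by
  refine (Twisted.group_le_closure_simple rooted_G2).trans ((Subgroup.closure_le _).2 ?_)
  rintro x ⟨r, ⟨i, hi, hr⟩, t, hx⟩
  obtain ⟨p, hp, hpr⟩ : ∃ p ∈ folded, p.1 = r := by
    rcases hr with rfl | rfl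
    exacts [(simple_folded i hi).1, (simple_folded i hi).2]
  obtain ⟨g, hg⟩ : ∃ g : GL chevD4.Idx F,
      (g : Matrix chevD4.Idx chevD4.Idx F) = (p.2.map fun r => chevD4.x F r t).prod := by
    refine ⟨Classical.choose (isUnit_prod t p.2 fun r hr => ((folded_lt p hp).2.2.1 r hr).1), ?_⟩
    exact Classical.choose_spec (isUnit_prod t p.2 fun r hr => ((folded_lt p hp).2.2.1 r hr).1)
  refine ⟨⟨g, fold_fixed p hp t g hg⟩, Units.ext ?_⟩
  rw [coe_act, Matrix.mul_assoc]
  show fixP F * ((g : Matrix chevD4.Idx chevD4.Idx F) * fixE F) = _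
  rw [hg, folded_mul hp t, ← Matrix.mul_assoc, fixP_fixE, Matrix.one_mul, hpr, hx]

/-- The fixed points of triality are isomorphic to G2. -/
theorem fixed_iso [Fintype F] : Nonempty (↥(fixedGroup F) ≃* ↥(chevG2.group F)) := by
  classical
  have hcard := Cfsg.Agent.S1059.result (F := F) rfl
  have h1 : Nat.card ↥(chevG2.group F) ≤ Nat.card ↥(act F).range := Subgroup.card_le_of_le group_le_range
  have h2 : Nat.card ↥(fixedGroup F) ≤ Nat.card ↥(chevG2.group F) := hcard ▸ card_fixedGroup_le
  have h3 : Nat.card ↥(act F).range ≤ Nat.card ↥(fixedGroup F) :=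
    Nat.card_le_card_of_surjective _ (act F).rangeRestrict_surjective
  have hinj : Function.Injective (act F).rangeRestrict :=
    ((act F).rangeRestrict_surjective.bijective_of_nat_card_le (by omega)).1
  have heq : chevG2.group F = (act F).range :=
    Subgroup.eq_of_le_of_card_ge group_le_range (h3.trans h2)
  exact ⟨(MulEquiv.ofBijective (act F).rangeRestrict ⟨hinj, (act F).rangeRestrict_surjective⟩).trans
    (MulEquiv.subgroupCongr heq.symm)⟩

theorem symmetries : ∀ π : Equiv.Perm (Fin chevD4.rank),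
    (∀ i j : Fin chevD4.rank, i ≠ j → chevD4.bonds (π i) (π j) = chevD4.bonds i j) →
    (∀ i, (π i).val = d4Graph.node i.val) ∨ (∀ i, (π i).val = d4GraphInv.node i.val) ∨ ∀ i, π (π i) = i := by
  decide +kernel

theorem isLong_const : ∀ i < 4, chevD4.isLong (chevD4.simple i) = chevD4.isLong (chevD4.simple 0) := by
  decide +kernel

theorem graphExp_one (c : ℕ) {i j : ℕ} (hi : i < 4) (hj : j < 4) : chevD4.graphExp c i j = 1 := by
  simp [ChevalleyDatum.graphExp, isLong_const i hi, isLong_const j hj]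

theorem neg_simple_lt {i : ℕ} (hi : i < chevD4.rank) : chevD4.neg (chevD4.simple i) < chevD4.nroots :=
  d4Graph_facts.neg_lt _ (Checked.simple_lt hc hi)

theorem hom_ext {M : Type*} [Monoid M] (a b : ↥(chevD4.group F) →* M)
    (h : ∀ g : ↥(chevD4.group F), ∀ i < chevD4.rank, ∀ t : F,
      ((g : GL chevD4.Idx F) : Matrix chevD4.Idx chevD4.Idx F) = chevD4.x F (chevD4.simple i) t ∨
        ((g : GL chevD4.Idx F) : Matrix chevD4.Idx chevD4.Idx F) = chevD4.x F (chevD4.neg (chevD4.simple i)) t →
      a g = b g) : a = b := by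
  refine MonoidHom.ext fun g => ?_
  have hle : chevD4.group F ≤ (MonoidHom.eqLocus a b).map (chevD4.group F).subtype := by
    refine (Twisted.group_le_closure_simple hh).trans ((Subgroup.closure_le _).2 ?_)
    rintro x ⟨r, ⟨i, hi, hr⟩, t, hx⟩
    have hrlt : r < chevD4.nroots := by
      rcases hr with rfl | rfl
      · exact Checked.simple_lt hc hi
      · exact d4Graph_facts.neg_lt _ (Checked.simple_lt hc hi)
    have hxG : x ∈ chevD4.group F :=
      Subgroup.subset_closure ⟨⟨r, hrlt⟩, t, by rw [hx, ChevalleyDatum.x, dif_pos hrlt]⟩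
    refine ⟨⟨x, hxG⟩, h _ i hi t ?_, rfl⟩
    rcases hr with rfl | rfl
    exacts [Or.inl hx, Or.inr hx]
  obtain ⟨g', hg', e⟩ := hle g.2
  rw [← Subtype.ext (show (g' : GL chevD4.Idx F) = g from e)]
  exact hg'

theorem eqLocus_iso (τ : MulAut ↥(chevD4.group F))
    (he : ∀ g : ↥(chevD4.group F), τ g = g ↔ alpha F (g : GL chevD4.Idx F) = g) :
    Nonempty (↥(MonoidHom.eqLocus τ.toMonoidHom (MonoidHom.id ↥(chevD4.group F))) ≃* ↥(fixedGroup F)) :=
  ⟨{ toFun := fun g => ⟨(g.1 : GL chevD4.Idx F), mem_fixedGroup.2 ⟨g.1.2, (he _).1 g.2⟩⟩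
     invFun := fun g => ⟨⟨g.1, (mem_fixedGroup.1 g.2).1⟩, (he _).2 (mem_fixedGroup.1 g.2).2⟩
     left_inv := fun _ => rfl
     right_inv := fun _ => rfl
     map_mul' := fun _ _ => rfl }⟩

/-- The centralizer of a triality graph automorphism is G2. -/
theorem triality_centralizer [Fintype F] (τ : MulAut ↥(chevD4.group F)) (hτ : chevD4.IsGraphAut τ)
    (hτ3 : orderOf τ = 3) :
    Nonempty (↥(MonoidHom.eqLocus τ.toMonoidHom (MonoidHom.id ↥(chevD4.group F))) ≃* ↥(chevG2.group F)) := by
  obtain ⟨π, hπ, hgen⟩ := hτ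
  set A : MulAut ↥(chevD4.group F) := GraphData.graphAut d4Graph_facts F
  set B : MulAut ↥(chevD4.group F) := GraphData.graphAut d4GraphInv_facts F
  have hval : ∀ (P : GraphData) (hP : P.Facts chevD4), (∀ i, (π i).val = P.node i.val) →
      (∀ i < 4, P.sign (chevD4.simple i) = 1 ∧ P.sign (chevD4.neg (chevD4.simple i)) = 1 ∧
        P.root (chevD4.simple i) = chevD4.simple (P.node i) ∧
        P.root (chevD4.neg (chevD4.simple i)) = chevD4.neg (chevD4.simple (P.node i))) →
      τ.toMonoidHom = (GraphData.graphAut hP F).toMonoidHom := by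
    intro P hP hnode hdata
    refine hom_ext _ _ fun g i hi t hg => ?_
    obtain ⟨d1, d2, d3, d4⟩ := hdata i hi
    obtain ⟨g1, g2⟩ := hgen g ⟨i, hi⟩ t
    rw [graphExp_one _ hi (π ⟨i, hi⟩).isLt] at g1 g2
    simp only [pow_one, hnode ⟨i, hi⟩] at g1 g2
    refine Subtype.ext (Units.ext ?_)
    rcases hg with hg | hg
    · refine (g1 hg).trans ?_
      rw [MulEquiv.coe_toMonoidHom, GraphData.graphAut_x hP F g (Checked.simple_lt hc hi) t hg, d1, d3,
        Int.cast_one, one_mul]
    · refine (g2 hg).trans ?_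
      rw [MulEquiv.coe_toMonoidHom, GraphData.graphAut_x hP F g (neg_simple_lt hi) t hg,
        d2, d4, Int.cast_one, one_mul]
  have hfix : ∀ g : ↥(chevD4.group F), A g = g ↔ alpha F (g : GL chevD4.Idx F) = g := fun g =>
    ⟨fun e => congrArg Subtype.val e, fun e => Subtype.ext e⟩
  suffices hsuff : ∀ g, τ g = g ↔ A g = g by
    obtain ⟨e⟩ := eqLocus_iso τ fun g => (hsuff g).trans (hfix g)
    obtain ⟨e'⟩ := fixed_iso (F := F)
    exact ⟨e.trans e'⟩
  rcases symmetries π hπ with hA | hB | h2
  · intro g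
    have e := MonoidHom.ext_iff.1 (hval d4Graph d4Graph_facts hA (by decide +kernel)) g
    simp only [MulEquiv.coe_toMonoidHom] at e
    rw [e]
  · have e := hval d4GraphInv d4GraphInv_facts hB (by decide +kernel)
    have hBA : (B.toMonoidHom.comp A.toMonoidHom) = MonoidHom.id _ := by
      refine hom_ext _ _ fun g i hi t hg => ?_
      have hd : ∀ i < 4, d4Graph.sign (chevD4.simple i) = 1 ∧ d4Graph.sign (chevD4.neg (chevD4.simple i)) = 1 ∧
          d4GraphInv.sign (d4Graph.root (chevD4.simple i)) = 1 ∧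
          d4GraphInv.sign (d4Graph.root (chevD4.neg (chevD4.simple i))) = 1 ∧
          d4GraphInv.root (d4Graph.root (chevD4.simple i)) = chevD4.simple i ∧
          d4GraphInv.root (d4Graph.root (chevD4.neg (chevD4.simple i))) = chevD4.neg (chevD4.simple i) := by
        decide +kernel
      obtain ⟨a1, a2, b1, b2, c1, c2⟩ := hd i hi
      refine Subtype.ext (Units.ext ?_)
      simp only [MonoidHom.comp_apply, MulEquiv.coe_toMonoidHom, MonoidHom.id_apply]
      rcases hg with hg | hg
      · have h1 := GraphData.graphAut_x d4Graph_facts F g (Checked.simple_lt hc hi) t hg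
        rw [a1, Int.cast_one, one_mul] at h1
        rw [GraphData.graphAut_x d4GraphInv_facts F _ (rho_lt (Checked.simple_lt hc hi)) t h1, hg]
        show chevD4.x F (d4GraphInv.root (d4Graph.root _)) ((d4GraphInv.sign (d4Graph.root _) : F) * t) = _
        rw [b1, c1, Int.cast_one, one_mul]
      · have hlt := neg_simple_lt hi
        have h1 := GraphData.graphAut_x d4Graph_facts F g hlt t hg
        rw [a2, Int.cast_one, one_mul] at h1
        rw [GraphData.graphAut_x d4GraphInv_facts F _ (rho_lt hlt) t h1, hg]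
        show chevD4.x F (d4GraphInv.root (d4Graph.root _)) ((d4GraphInv.sign (d4Graph.root _) : F) * t) = _
        rw [b2, c2, Int.cast_one, one_mul]
    intro g
    have e' : τ g = B g := MonoidHom.ext_iff.1 e g
    have hBA' : ∀ x, B (A x) = x := fun x => MonoidHom.ext_iff.1 hBA x
    rw [e']
    constructor
    · intro h
      exact B.injective (by rw [hBA', h])
    · intro h
      conv_lhs => rw [← h, hBA']
  · exfalso
    have hsq : τ.toMonoidHom.comp τ.toMonoidHom = MonoidHom.id _ := by
      refine hom_ext _ _ fun g i hi t hg => Subtype.ext (Units.ext ?_)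
      obtain ⟨g1, g2⟩ := hgen g ⟨i, hi⟩ t
      obtain ⟨k1, k2⟩ := hgen (τ g) (π ⟨i, hi⟩) t
      rw [graphExp_one _ hi (π ⟨i, hi⟩).isLt] at g1 g2
      rw [graphExp_one _ (π ⟨i, hi⟩).isLt (π (π ⟨i, hi⟩)).isLt] at k1 k2
      simp only [pow_one, h2] at g1 g2 k1 k2
      simp only [MonoidHom.comp_apply, MulEquiv.coe_toMonoidHom, MonoidHom.id_apply]
      rcases hg with hg | hg
      · exact (k1 (g1 hg)).trans hg.symm
      · exact (k2 (g2 hg)).trans hg.symm
    have hone : τ ^ 2 = 1 := MulEquiv.ext fun g => by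
      rw [pow_two]; exact MonoidHom.ext_iff.1 hsq g
    have := orderOf_dvd_of_pow_eq_one hone
    rw [hτ3] at this
    norm_num at this

end Cfsg.Agent.Lib.Triality
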