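import Cfsg.Agent.Lib.Triality.Data
import Cfsg.Agent.Lib.Chev.Perfect
import Cfsg.Agent.Lib.Twisted.Generation

/-!
The action of the fixed points of triality on the fixed subalgebra, and its values on the folded
root elements.
-/

set_option autoImplicit false

namespace Cfsg.Agent.Lib.Triality

open Cfsg.Lie Cfsg.Agent.Lib.Chev Cfsg.Agent.Lib.Twisted
open scoped Matrix

variable {F : Type*} [Field F]

/-- The triality. -/
noncomputable def alpha (F : Type*) [Field F] : GL chevD4.Idx F ≃* GL chevD4.Idx F :=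
  GraphData.glConj d4Graph_facts F

/-- The fixed points of triality in the group. -/
noncomputable def fixedGroup (F : Type*) [Field F] : Subgroup (GL chevD4.Idx F) :=
  chevD4.group F ⊓ MonoidHom.eqLocus (alpha F).toMonoidHom (MonoidHom.id _)

theorem mem_fixedGroup {g : GL chevD4.Idx F} :
    g ∈ fixedGroup F ↔ g ∈ chevD4.group F ∧ alpha F g = g := Iff.rfl

/-- The coordinate moved by triality. -/
noncomputable def sig (a : chevD4.Idx) : chevD4.Idx := GraphData.idxEquiv d4Graph_facts a

theorem fixed_entry {g : GL chevD4.Idx F} (hg : alpha F g = g) (a b : chevD4.Idx) :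
    (g : Matrix chevD4.Idx chevD4.Idx F) (sig a) (sig b) =
      d4Graph.idxSign F a * d4Graph.idxSign F b * (g : Matrix chevD4.Idx chevD4.Idx F) a b := by
  conv_lhs => rw [← hg]
  show GraphData.conjMap d4Graph_facts F (g : Matrix chevD4.Idx chevD4.Idx F) (sig a) (sig b) = _
  simp [GraphData.conjMap, sig]

/-- The coordinate moved by triality, computably. -/
def sigC : chevD4.Idx → chevD4.Idx
  | Sum.inl i => Sum.inl ⟨d4Graph.node i.val % 4, Nat.mod_lt _ (by decide)⟩
  | Sum.inr r => Sum.inr ⟨d4Graph.root r.val % 24, Nat.mod_lt _ (by decide)⟩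

theorem sig_eq (a : chevD4.Idx) : sig a = sigC a := by
  rcases a with i | r
  · simp only [sig, GraphData.idxEquiv_inl, sigC]
    exact congrArg Sum.inl (Fin.ext (Nat.mod_eq_of_lt (d4Graph_facts.node_lt i i.2)).symm)
  · simp only [sig, GraphData.idxEquiv_inr, sigC]
    exact congrArg Sum.inr (Fin.ext (Nat.mod_eq_of_lt (d4Graph_facts.root_lt r r.2)).symm)

/-- The sign of a coordinate. -/
def isign : chevD4.Idx → ℤ
  | Sum.inl _ => 1
  | Sum.inr r => d4Graph.sign r.val

theorem isign_cast (a : chevD4.Idx) : (isign a : F) = d4Graph.idxSign F a := by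
  rcases a with i | r <;> simp [isign, GraphData.idxSign]

set_option maxRecDepth 100000 in
theorem fix_facts : ∀ a : chevD4.Idx, kOf (sigC a) = kOf a ∧ cOf (sigC a) = isign a * cOf a ∧
    cOf a * cOf a = 1 ∧ ∃ j : chevG2.Idx, kOf a = num2 j ∧
      (a = rep j ∨ a = sigC (rep j) ∨ a = sigC (sigC (rep j))) := by
  decide +kernel

set_option maxRecDepth 100000 in
theorem rep_facts : ∀ j : chevG2.Idx, kOf (rep j) = num2 j ∧ cOf (rep j) * cOf (rep j) = 1 := by
  decide +kernel

theorem num2_injective : Function.Injective num2 := fun a b e =>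
  finSumFinEquiv.injective (Fin.ext e)

theorem fixP_mul (M : Matrix chevD4.Idx chevG2.Idx F) (j k : chevG2.Idx) :
    (fixP F * M) j k = (cOf (rep j) : F) * M (rep j) k := by
  rw [Matrix.mul_apply, Finset.sum_eq_single (rep j)]
  · simp [fixP]
  · intro b _ hb
    simp [fixP, hb]
  · simp

theorem fixP_fixE : fixP F * fixE F = 1 := by
  ext j k
  rw [fixP_mul]
  simp only [fixE, Matrix.of_apply, (rep_facts j).1, num2_injective.eq_iff, Matrix.one_apply]
  split_ifs with h
  · rw [← Int.cast_mul, (rep_facts j).2, Int.cast_one]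
  · rw [mul_zero]

/-- A fixed element maps the fixed vectors into their span. -/
theorem mul_fixE {g : GL chevD4.Idx F} (hg : alpha F g = g) :
    (g : Matrix chevD4.Idx chevD4.Idx F) * fixE F =
      fixE F * (fixP F * (g : Matrix chevD4.Idx chevD4.Idx F) * fixE F) := by
  obtain ⟨G, hG⟩ : ∃ G, (g : Matrix chevD4.Idx chevD4.Idx F) = G := ⟨_, rfl⟩
  have hfix : ∀ a b, G (sig a) (sig b) = d4Graph.idxSign F a * d4Graph.idxSign F b * G a b := by
    rw [← hG]; exact fixed_entry hg
  rw [hG]
  set M := G * fixE F with hM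
  have hsig : ∀ a k, M (sig a) k = (isign a : F) * M a k := by
    intro a k
    rw [hM, Matrix.mul_apply, Matrix.mul_apply, Finset.mul_sum]
    refine ((Equiv.sum_comp (GraphData.idxEquiv d4Graph_facts) _).symm).trans ?_
    refine Finset.sum_congr rfl fun b _ => ?_
    show G (sig a) (sig b) * fixE F (sig b) k = _
    rw [hfix, sig_eq b]
    simp only [fixE, Matrix.of_apply, (fix_facts b).1, (fix_facts b).2.1, isign_cast, Int.cast_mul]
    rw [← isign_cast, ← isign_cast]
    split_ifs
    · have hs : (isign b : F) * (isign b : F) = 1 := by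
        rw [isign_cast]; exact GraphData.idxSign_sq F d4Graph_facts b
      linear_combination (isign a : F) * (cOf b : F) * G a b * hs
    · simp
  have hQ : ∀ a k, (cOf (sigC a) : F) * M (sigC a) k = (cOf a : F) * M a k := by
    intro a k
    rw [← sig_eq, hsig, sig_eq, (fix_facts a).2.1, Int.cast_mul]
    have hs : (isign a : F) * (isign a : F) = 1 := by
      rw [isign_cast]; exact GraphData.idxSign_sq F d4Graph_facts a
    linear_combination (cOf a : F) * M a k * hs
  ext a k
  obtain ⟨hk1, hk2, hc, j, hj, hor⟩ := fix_facts a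
  rw [Matrix.mul_assoc, ← hM, Matrix.mul_apply, Finset.sum_eq_single j]
  · rw [fixP_mul]
    simp only [fixE, Matrix.of_apply, hj, if_true]
    have hq : (cOf a : F) * M a k = (cOf (rep j) : F) * M (rep j) k := by
      rcases hor with rfl | rfl | rfl
      · rfl
      · rw [hQ]
      · rw [hQ, hQ]
    rw [← hq, ← mul_assoc, ← Int.cast_mul, hc, Int.cast_one, one_mul]
  · intro b _ hb
    simp only [fixE, Matrix.of_apply]
    rw [if_neg (fun e => hb (num2_injective (hj.symm.trans e)).symm), zero_mul]
  · simp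

/-- The action on the fixed subalgebra. -/
noncomputable def act (F : Type*) [Field F] : ↥(fixedGroup F) →* GL chevG2.Idx F :=
  ({ toFun := fun g => fixP F * ((g : GL chevD4.Idx F) : Matrix chevD4.Idx chevD4.Idx F) * fixE F
     map_one' := by simp [fixP_fixE]
     map_mul' := fun g h => by
      rw [Subgroup.coe_mul, Units.val_mul]
      simp only [Matrix.mul_assoc]
      congr 1
      congr 1
      have e := mul_fixE (mem_fixedGroup.1 h.2).2
      simp only [Matrix.mul_assoc] at e
      exact e } :
    ↥(fixedGroup F) →* Matrix chevG2.Idx chevG2.Idx F).toHomUnits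

theorem coe_act (g : ↥(fixedGroup F)) :
    ((act F g : GL chevG2.Idx F) : Matrix chevG2.Idx chevG2.Idx F) =
      fixP F * ((g : GL chevD4.Idx F) : Matrix chevD4.Idx chevD4.Idx F) * fixE F := rfl

open PolyMat

theorem evalM_foldTerms (t : F) : ∀ l : List ℕ, (∀ r ∈ l, r < chevD4.nroots ∧ chevD4.negIdx.getD r 0 ≠ r) →
    (∀ r ∈ l, ∀ q ∈ IsoData.xList chevD4 r, q.2.1 < 28) →
    evalM 28 t (foldTerms l) = IsoData.toFin chevD4 (l.map fun r => chevD4.x F r t).prod
  | [], _, _ => by
    rw [foldTerms, evalM_one, List.map_nil, List.prod_nil, map_one]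
    rfl
  | r :: l, h1, h2 => by
    rw [foldTerms, evalM_mul t _ _ (h2 r List.mem_cons_self), List.map_cons, List.prod_cons, map_mul,
      evalM_foldTerms t l (fun x hx => h1 x (List.mem_cons_of_mem _ hx))
        (fun x hx => h2 x (List.mem_cons_of_mem _ hx)),
      IsoData.toFin_x chevD4 (h1 r List.mem_cons_self).1 (h1 r List.mem_cons_self).2]
    rfl

set_option maxRecDepth 100000 in
theorem fixTerms_entry : ∀ (a : chevD4.Idx) (j : chevG2.Idx),
    entryP fixTerms (num4 a) (num2 j) = if kOf a = num2 j then [(0, cOf a)] else [] := by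
  decide +kernel

theorem fixE_eq (t : F) (a : chevD4.Idx) (j : chevG2.Idx) (hj : num2 j < 28) :
    fixE F a j = evalM 28 t fixTerms (finSumFinEquiv a) ⟨num2 j, hj⟩ := by
  refine Eq.trans ?_ (evalM_apply t fixTerms (finSumFinEquiv a : Fin 28) ⟨num2 j, hj⟩).symm
  show _ = evalP t (entryP fixTerms (num4 a) (num2 j))
  rw [fixTerms_entry]
  simp only [fixE, Matrix.of_apply]
  split_ifs <;> simp [evalP]

theorem num2_lt (j : chevG2.Idx) : num2 j < 14 := (finSumFinEquiv j).isLt

set_option maxRecDepth 100000 in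
theorem foldTerms_lt : ∀ p ∈ folded, ∀ q ∈ foldTerms p.2, q.2.1 < 28 := by decide +kernel

/-- Equivariance of the fixed vectors for the folded root elements. -/
theorem folded_mul {p : ℕ × List ℕ} (hp : p ∈ folded) (t : F) :
    (p.2.map fun r => chevD4.x F r t).prod * fixE F = fixE F * chevG2.x F p.1 t := by
  obtain ⟨h1, h1', h2, h3, h4⟩ := folded_lt p hp
  ext a k
  have hk : num2 k < 28 := (num2_lt k).trans (by norm_num)
  have e := evalM_entry_eq t (folded_ok p hp) (finSumFinEquiv a) ⟨num2 k, hk⟩ (num2_lt k)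
  have hL : ∀ q ∈ foldTerms p.2, q.2.1 < 28 := foldTerms_lt p hp
  have hR : ∀ q ∈ fixTerms, q.2.1 < 28 := fun q hq => (fixTerms_lt q hq).1.trans (by norm_num)
  rw [evalM_mul t _ _ hL, evalM_mul t _ _ hR, evalM_foldTerms t p.2 h2 h3] at e
  erw [Matrix.mul_apply, Matrix.mul_apply] at e
  rw [Matrix.mul_apply, Matrix.mul_apply]
  refine Eq.trans ?_ (e.trans ?_)
  · refine Eq.trans ?_ (Equiv.sum_comp finSumFinEquiv _)
    refine Finset.sum_congr rfl fun b _ => ?_
    rw [IsoData.toFin_apply, fixE_eq t]
  · have hsplit : ∀ f : Fin 28 → F, (∀ i : Fin 28, 14 ≤ i.val → f i = 0) →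
        ∑ i, f i = ∑ j : chevG2.Idx, f ⟨num2 j, (num2_lt j).trans (by norm_num)⟩ := by
      intro f hf
      refine (Finset.sum_of_injOn (fun j : chevG2.Idx => (⟨num2 j, (num2_lt j).trans (by norm_num)⟩ : Fin 28))
        ?_ (by simp) ?_ (fun _ _ => rfl)).symm
      · exact fun x _ y _ e => num2_injective (Fin.mk.inj_iff.1 (show (⟨num2 x, _⟩ : Fin 28) = ⟨num2 y, _⟩ from e))
      · intro i _ hi
        refine hf i (not_lt.1 fun hlt => hi ⟨finSumFinEquiv.symm ⟨i.val, hlt⟩, by simp, ?_⟩)
        exact Fin.ext (by simp [num2])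
    rw [hsplit]
    · refine Finset.sum_congr rfl fun j _ => ?_
      rw [fixE_eq t a j ((num2_lt j).trans (by norm_num)), ← IsoData.toFin_apply chevG2 (chevG2.x F p.1 t) j k,
        IsoData.toFin_x chevG2 h1 h1', evalM_apply, evalM_apply]
      rfl
    · intro i hi
      have : evalM 28 t (IsoData.xList chevG2 p.1) i ⟨num2 k, hk⟩ = 0 := by
        rw [evalM_apply, show entryP (IsoData.xList chevG2 p.1) i.val (num2 k) = [] by
          simp only [entryP, List.map_eq_nil_iff, List.filter_eq_nil_iff]
          intro q hq hb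
          simp only [Bool.and_eq_true, beq_iff_eq] at hb
          have := h4 q hq
          omega]
        rfl
      rw [this, mul_zero]

end Cfsg.Agent.Lib.Triality
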